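/-
Trace of multiplication on `R ⧸ (t ^ i)` when the graded pieces are all isomorphic to `R ⧸ (t)`.
-/
import Mathlib.RingTheory.Trace.Basic
import Mathlib.LinearAlgebra.Determinant
import Mathlib.RingTheory.Ideal.Quotient.Operations

set_option autoImplicit false

namespace Groth.Agent.DiffTame

universe u v

theorem trace_eq_trace_restrict_add_trace_mapQ {R V : Type*} [CommRing R] [AddCommGroup V]
    [Module R V] [Module.Finite R V] [Module.Free R V]
    (W : Submodule R V) [Module.Free R W] [Module.Finite R W] [Module.Free R (V ⧸ W)]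
    (e : V →ₗ[R] V) (he : W ≤ W.comap e) :
    LinearMap.trace R V e =
      LinearMap.trace R W (e.restrict he) + LinearMap.trace R (V ⧸ W) (W.mapQ W e he) := by
  classical
  let m := Module.Free.ChooseBasisIndex R W
  let bW : Module.Basis m R W := Module.Free.chooseBasis R W
  let n := Module.Free.ChooseBasisIndex R (V ⧸ W)
  let bQ : Module.Basis n R (V ⧸ W) := Module.Free.chooseBasis R (V ⧸ W)
  let b := Module.Basis.sumQuot bW bQ
  rw [LinearMap.trace_eq_matrix_trace R b, LinearMap.trace_eq_matrix_trace R bW,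
    LinearMap.trace_eq_matrix_trace R bQ]
  simp only [Matrix.trace, Matrix.diag, Fintype.sum_sum_type]
  congr 1
  · refine Finset.sum_congr rfl fun i _ ↦ ?_
    simp only [b, LinearMap.toMatrix_apply, Module.Basis.sumQuot_inl]
    apply Module.Basis.sumQuot_repr_inl_of_mem
  · refine Finset.sum_congr rfl fun j _ ↦ ?_
    simp only [b, LinearMap.toMatrix_apply, Module.Basis.sumQuot_repr_inr]
    rw [← Module.Basis.sumQuot_inr bW bQ j, W.mapQ_apply]
    simp

theorem trace_eq_add_of_exact {k V₁ V V₃ : Type*} [Field k] [AddCommGroup V₁] [Module k V₁]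
    [AddCommGroup V] [Module k V] [AddCommGroup V₃] [Module k V₃] [Module.Finite k V]
    (f : V₁ →ₗ[k] V) (g : V →ₗ[k] V₃) (hf : Function.Injective f) (hg : Function.Surjective g)
    (hex : Function.Exact f g) (a : V₁ →ₗ[k] V₁) (b : V →ₗ[k] V) (c : V₃ →ₗ[k] V₃)
    (hab : ∀ x, f (a x) = b (f x)) (hbc : ∀ x, g (b x) = c (g x)) :
    LinearMap.trace k V b = LinearMap.trace k V₁ a + LinearMap.trace k V₃ c := by
  have hW : LinearMap.range f ≤ (LinearMap.range f).comap b := by
    rintro _ ⟨x, rfl⟩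
    exact ⟨a x, hab x⟩
  rw [trace_eq_trace_restrict_add_trace_mapQ (LinearMap.range f) b hW]
  let e₁ : V₁ ≃ₗ[k] LinearMap.range f := LinearEquiv.ofInjective f hf
  let e₃ : (V ⧸ LinearMap.range f) ≃ₗ[k] V₃ :=
    (Submodule.quotEquivOfEq _ _ hex.linearMap_ker_eq.symm).trans (g.quotKerEquivOfSurjective hg)
  congr 1
  · rw [← LinearMap.trace_conj' a e₁]
    congr 1
    ext ⟨x, y, rfl⟩
    have : e₁.symm ⟨f y, ⟨y, rfl⟩⟩ = y := by
      rw [LinearEquiv.symm_apply_eq]; ext; rfl
    simp [LinearEquiv.conj_apply_apply, this, e₁, LinearEquiv.ofInjective_apply, hab]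
  · rw [← LinearMap.trace_conj' _ e₃]
    congr 1
    ext x
    obtain ⟨y, rfl⟩ := hg x
    have : e₃.symm (g y) = Submodule.Quotient.mk y := by
      rw [LinearEquiv.symm_apply_eq]; rfl
    rw [LinearEquiv.conj_apply_apply, this, Submodule.mapQ_apply, ← hbc]
    rfl

section

variable {k : Type u} {R : Type v} [Field k] [CommRing R] [Algebra k R] [Module.Finite k R]

/-- If the graded pieces `(t^i)/(t^(i+1))` for `i < n` are isomorphic to `R/(t)`, the trace of
`R ⧸ (t^n)` is `n` times the trace of `R ⧸ (t)`. -/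
theorem trace_quotient_span_pow (t : R) (n : ℕ)
    (ht : ∀ i < n, ∀ r, t ^ i * r ∈ Ideal.span {t ^ (i + 1)} → r ∈ Ideal.span {t}) (x : R) :
    Algebra.trace k (R ⧸ Ideal.span {t ^ n}) (Ideal.Quotient.mk _ x) =
      n • Algebra.trace k (R ⧸ Ideal.span {t}) (Ideal.Quotient.mk _ x) := by
  induction n with
  | zero =>
    have : Subsingleton (R ⧸ Ideal.span {t ^ 0}) :=
      Ideal.Quotient.subsingleton_iff.mpr (by simp)
    rw [zero_nsmul, Subsingleton.elim (Ideal.Quotient.mk (Ideal.span {t ^ 0}) x) 0, map_zero]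
  | succ n ih =>
    have hle : Ideal.span {t ^ (n + 1)} ≤ Ideal.span {t ^ n} :=
      Ideal.span_singleton_le_span_singleton.mpr (pow_dvd_pow t n.le_succ)
    have hmul : Ideal.span {t} ≤
        Submodule.comap (LinearMap.mulLeft R (t ^ n)) (Ideal.span {t ^ (n + 1)}) := by
      intro r hr
      obtain ⟨s, rfl⟩ := Ideal.mem_span_singleton'.mp hr
      show t ^ n * (s * t) ∈ Ideal.span {t ^ (n + 1)}
      exact Ideal.mem_span_singleton'.mpr ⟨s, by ring⟩
    let f : (R ⧸ Ideal.span {t}) →ₗ[k] (R ⧸ Ideal.span {t ^ (n + 1)}) :=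
      (Submodule.mapQ (Ideal.span {t}) (Ideal.span {t ^ (n + 1)})
        (LinearMap.mulLeft R (t ^ n)) hmul).restrictScalars k
    let g : (R ⧸ Ideal.span {t ^ (n + 1)}) →ₗ[k] (R ⧸ Ideal.span {t ^ n}) :=
      (Ideal.Quotient.factorₐ k hle).toLinearMap
    have hfmk (r : R) : f (Ideal.Quotient.mk _ r) = Ideal.Quotient.mk _ (t ^ n * r) := rfl
    have hgmk (r : R) : g (Ideal.Quotient.mk _ r) = Ideal.Quotient.mk _ r := rfl
    have key := trace_eq_add_of_exact f g ?_ ?_ ?_
      (Algebra.lmul k _ (Ideal.Quotient.mk (Ideal.span {t}) x))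
      (Algebra.lmul k _ (Ideal.Quotient.mk (Ideal.span {t ^ (n + 1)}) x))
      (Algebra.lmul k _ (Ideal.Quotient.mk (Ideal.span {t ^ n}) x)) ?_ ?_
    · rw [Algebra.trace_apply, key, ← Algebra.trace_apply, ← Algebra.trace_apply,
        ih (fun i hi ↦ ht i (hi.trans n.lt_succ_self)), succ_nsmul, add_comm]
    · rw [injective_iff_map_eq_zero]
      intro y
      obtain ⟨r, rfl⟩ := Ideal.Quotient.mk_surjective y
      rw [hfmk, Ideal.Quotient.eq_zero_iff_mem, Ideal.Quotient.eq_zero_iff_mem]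
      exact ht n n.lt_succ_self r
    · intro y
      obtain ⟨r, rfl⟩ := Ideal.Quotient.mk_surjective y
      exact ⟨Ideal.Quotient.mk _ r, rfl⟩
    · intro y
      obtain ⟨r, rfl⟩ := Ideal.Quotient.mk_surjective y
      rw [hgmk, Ideal.Quotient.eq_zero_iff_mem, Ideal.mem_span_singleton']
      constructor
      · rintro ⟨s, rfl⟩
        exact ⟨Ideal.Quotient.mk _ s, by rw [hfmk, mul_comm]⟩
      · rintro ⟨z, hz⟩
        obtain ⟨s, rfl⟩ := Ideal.Quotient.mk_surjective z
        rw [hfmk, Ideal.Quotient.eq, Ideal.mem_span_singleton'] at hz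
        obtain ⟨u, hu⟩ := hz
        exact ⟨s - u * t, by linear_combination -hu⟩
    · intro y
      obtain ⟨r, rfl⟩ := Ideal.Quotient.mk_surjective y
      simp only [Algebra.coe_lmul_eq_mul, LinearMap.mul_apply', ← map_mul, hfmk]
      congr 1
      ring
    · intro y
      obtain ⟨r, rfl⟩ := Ideal.Quotient.mk_surjective y
      simp only [Algebra.coe_lmul_eq_mul, LinearMap.mul_apply', ← map_mul, hgmk]

end

end Groth.Agent.DiffTame
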