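/-
The different of a finite extension of discrete valuation rings and tameness.
-/
import Mathlib.RingTheory.DedekindDomain.Different
import Mathlib.RingTheory.DiscreteValuationRing.Basic
import Mathlib.RingTheory.LocalRing.ResidueField.Basic
import Mathlib.RingTheory.RamificationInertia.Basic
import Groth.Agent.Lib.DiffTame.TraceFiltration

set_option autoImplicit false

attribute [local instance] FractionRing.liftAlgebra FractionRing.isScalarTower_liftAlgebra

namespace Groth.Agent.DiffTame

open IsLocalRing nonZeroDivisors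

universe u

variable (A B : Type u) [CommRing A] [IsDomain A] [IsDiscreteValuationRing A]
    [CommRing B] [IsDomain B] [IsDiscreteValuationRing B] [Algebra A B] [Module.Finite A B]
    [Module.IsTorsionFree A B] [IsLocalHom (algebraMap A B)]

theorem map_maximalIdeal_eq_pow :
    (maximalIdeal A).map (algebraMap A B) =
      maximalIdeal B ^ Ideal.ramificationIdx (maximalIdeal B) A := by
  obtain ⟨π, hπ⟩ := IsDiscreteValuationRing.exists_irreducible B
  have hp : maximalIdeal A ≠ ⊥ := IsDiscreteValuationRing.not_a_field A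
  have hpB : (maximalIdeal A).map (algebraMap A B) ≠ ⊥ := Ideal.map_ne_bot_of_ne_bot hp
  obtain ⟨n, hn⟩ := IsDiscreteValuationRing.ideal_eq_span_pow_irreducible hpB hπ
  have hn' : (maximalIdeal A).map (algebraMap A B) = maximalIdeal B ^ n := by
    rw [hn, hπ.maximalIdeal_eq, Ideal.span_singleton_pow]
  have : (maximalIdeal B).LiesOver (maximalIdeal A) :=
    ⟨(((local_hom_TFAE (algebraMap A B)).out 0 4 rfl rfl).mp inferInstance).symm⟩
  have : Ideal.ramificationIdx (maximalIdeal B) A = n := by
    rw [← Ideal.ramificationIdx'_eq_ramificationIdx (maximalIdeal A) (maximalIdeal B) hp]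
    apply Ideal.ramificationIdx'_spec
    · rw [hn']
    · rw [hn']
      exact fun h ↦ (Ideal.pow_succ_lt_pow (IsDiscreteValuationRing.not_a_field B) n).not_ge h
  rw [this, hn']

attribute [local instance] Ideal.Quotient.field

/-- Trace of the special fibre: `e` times the trace of the residue field extension. -/
theorem intTrace_residue_eq (x : B) :
    residue A (Algebra.intTrace A B x) =
      (Ideal.ramificationIdx (maximalIdeal B) A : ResidueField A) *
        Algebra.trace (ResidueField A) (ResidueField B) (residue B x) := by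
  set e := Ideal.ramificationIdx (maximalIdeal B) A with he
  have hmap := map_maximalIdeal_eq_pow A B
  rw [← he] at hmap
  obtain ⟨π, hπ⟩ := IsDiscreteValuationRing.exists_irreducible B
  have hm : maximalIdeal B = Ideal.span {π} := hπ.maximalIdeal_eq
  have hpB : (maximalIdeal A).map (algebraMap A B) = Ideal.span {π ^ e} := by
    rw [hmap, hm, Ideal.span_singleton_pow]
  let pB := (maximalIdeal A).map (algebraMap A B)
  let t : B ⧸ pB := Ideal.Quotient.mk pB π
  have hte : Ideal.span {t ^ e} = (⊥ : Ideal (B ⧸ pB)) := by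
    rw [Ideal.span_singleton_eq_bot, ← map_pow, Ideal.Quotient.eq_zero_iff_mem]
    show π ^ e ∈ (maximalIdeal A).map (algebraMap A B)
    rw [hpB]; exact Ideal.mem_span_singleton_self _
  have ht : ∀ i < e, ∀ r, t ^ i * r ∈ Ideal.span {t ^ (i + 1)} → r ∈ Ideal.span {t} := by
    intro i hi r hr
    obtain ⟨r, rfl⟩ := Ideal.Quotient.mk_surjective r
    obtain ⟨s, hs⟩ := Ideal.mem_span_singleton'.mp hr
    obtain ⟨s, rfl⟩ := Ideal.Quotient.mk_surjective s
    simp only [t, ← map_pow, ← map_mul, Ideal.Quotient.eq] at hs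
    change _ ∈ (maximalIdeal A).map (algebraMap A B) at hs
    rw [hpB, Ideal.mem_span_singleton'] at hs
    obtain ⟨u, hu⟩ := hs
    have hr' : r = π * (s - u * π ^ (e - (i + 1))) := by
      apply mul_left_cancel₀ (pow_ne_zero i hπ.ne_zero)
      have : π ^ e = π ^ i * π * π ^ (e - (i + 1)) := by
        rw [← pow_succ, ← pow_add]; congr 1; omega
      rw [this] at hu
      linear_combination hu
    rw [Ideal.mem_span_singleton']
    exact ⟨Ideal.Quotient.mk pB (s - u * π ^ (e - (i + 1))), by
      conv_rhs => rw [hr', map_mul]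
      exact mul_comm _ _⟩
  have : IsScalarTower A (A ⧸ maximalIdeal A) (B ⧸ pB) := .of_algebraMap_eq' rfl
  have : Module.Finite (A ⧸ maximalIdeal A) (B ⧸ pB) :=
    .of_restrictScalars_finite A _ _
  have key := trace_quotient_span_pow (k := A ⧸ maximalIdeal A) t e ht (Ideal.Quotient.mk pB x)
  -- identify `(B ⧸ pB) ⧸ (t ^ e)` with `B ⧸ pB`
  rw [← Algebra.trace_eq_of_algEquiv ((Ideal.quotientEquivAlgOfEq (A ⧸ maximalIdeal A) hte).trans
    (AlgEquiv.quotientBot (A ⧸ maximalIdeal A) (B ⧸ pB)))] at key
  rw [show ((Ideal.quotientEquivAlgOfEq (A ⧸ maximalIdeal A) hte).trans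
    (AlgEquiv.quotientBot (A ⧸ maximalIdeal A) (B ⧸ pB)))
      (Ideal.Quotient.mk _ (Ideal.Quotient.mk pB x)) = Ideal.Quotient.mk pB x from rfl,
    Algebra.trace_quotient_eq_of_isDedekindDomain] at key
  -- identify `(B ⧸ pB) ⧸ (t)` with the residue field of `B`
  have hle : pB ≤ maximalIdeal B := by
    show (maximalIdeal A).map (algebraMap A B) ≤ _
    exact ((local_hom_TFAE (algebraMap A B)).out 0 2 rfl rfl).mp inferInstance
  let φ : B ⧸ pB →+* ResidueField B :=
    Ideal.Quotient.lift pB (residue B) fun a ha ↦ (residue_eq_zero_iff a).mpr (hle ha)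
  have hφmk (b : B) : φ (Ideal.Quotient.mk pB b) = residue B b := rfl
  have hφ : Function.Surjective φ := fun y ↦ by
    obtain ⟨b, rfl⟩ := residue_surjective y
    exact ⟨Ideal.Quotient.mk pB b, hφmk b⟩
  have hker : Ideal.span {t} = RingHom.ker φ := by
    apply le_antisymm
    · rw [Ideal.span_le, Set.singleton_subset_iff]
      exact (residue_eq_zero_iff π).mpr (hm ▸ Ideal.mem_span_singleton_self π)
    · intro y hy
      obtain ⟨b, rfl⟩ := Ideal.Quotient.mk_surjective y
      rw [RingHom.mem_ker, hφmk, residue_eq_zero_iff, hm, Ideal.mem_span_singleton'] at hy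
      obtain ⟨c, rfl⟩ := hy
      rw [map_mul]
      exact Ideal.mul_mem_left _ _ (Ideal.mem_span_singleton_self _)
  let ψ : ((B ⧸ pB) ⧸ Ideal.span {t}) ≃+* ResidueField B :=
    (Ideal.quotEquivOfEq hker).trans (RingHom.quotientKerEquivOfSurjective hφ)
  have hψ (b : B) : ψ (Ideal.Quotient.mk _ (Ideal.Quotient.mk pB b)) = residue B b := rfl
  let e₁ : (A ⧸ maximalIdeal A) ≃+* ResidueField A := RingEquiv.refl _
  have htr := Algebra.trace_eq_of_equiv_equiv e₁ ψ
    (RingHom.ext fun a ↦ by
      obtain ⟨a, rfl⟩ := Ideal.Quotient.mk_surjective a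
      rfl) (Ideal.Quotient.mk _ (Ideal.Quotient.mk pB x))
  rw [htr, hψ, nsmul_eq_mul] at key
  exact key

theorem exists_intTrace_notMem_iff :
    (∃ x : B, Algebra.intTrace A B x ∉ maximalIdeal A) ↔
      (Algebra.IsSeparable (ResidueField A) (ResidueField B) ∧
        ((Ideal.ramificationIdx (maximalIdeal B) A : ℕ) : ResidueField A) ≠ 0) := by
  simp only [← residue_eq_zero_iff, intTrace_residue_eq, mul_eq_zero, not_or]
  constructor
  · rintro ⟨x, he, hx⟩
    refine ⟨?_, he⟩
    by_contra h
    exact hx (by rw [Algebra.trace_eq_zero_of_not_isSeparable h, LinearMap.zero_apply])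
  · rintro ⟨hsep, he⟩
    obtain ⟨y, hy⟩ : ∃ y, Algebra.trace (ResidueField A) (ResidueField B) y ≠ 0 := by
      simpa [LinearMap.ext_iff] using Algebra.trace_ne_zero (ResidueField A) (ResidueField B)
    obtain ⟨x, rfl⟩ := residue_surjective y
    exact ⟨x, he, hy⟩

theorem map_maximalIdeal_dvd_differentIdeal
    [Algebra.IsSeparable (FractionRing A) (FractionRing B)]
    (h : ∀ x : B, Algebra.intTrace A B x ∈ maximalIdeal A) :
    (maximalIdeal A).map (algebraMap A B) ∣ differentIdeal A B := by
  obtain ⟨ϖ, hϖ⟩ := IsDiscreteValuationRing.exists_irreducible A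
  let K := FractionRing A
  let L := FractionRing B
  have : IsLocalization (Algebra.algebraMapSubmonoid B A⁰) L :=
    IsIntegralClosure.isLocalization _ K _ _
  have : FiniteDimensional K L := .of_isLocalization A B A⁰
  have hϖ' : algebraMap A K ϖ ≠ 0 := by simp [hϖ.ne_zero]
  have hne : (maximalIdeal A).map (algebraMap A B) ≠ ⊥ :=
    Ideal.map_ne_bot_of_ne_bot (IsDiscreteValuationRing.not_a_field A)
  rw [Ideal.dvd_iff_le, differentialIdeal_le_iff (K := K) (L := L) hne, hϖ.maximalIdeal_eq,
    Ideal.map_span, Set.image_singleton, FractionalIdeal.coeIdeal_span_singleton,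
    FractionalIdeal.spanSingleton_inv, Submodule.map_le_iff_le_comap]
  intro y hy
  rw [Submodule.restrictScalars_mem, FractionalIdeal.mem_coe,
    FractionalIdeal.mem_spanSingleton] at hy
  obtain ⟨b, rfl⟩ := hy
  obtain ⟨c, hc⟩ := Ideal.mem_span_singleton'.mp (hϖ.maximalIdeal_eq ▸ h b)
  rw [Submodule.mem_comap, LinearMap.coe_restrictScalars, Submodule.mem_one]
  refine ⟨c, ?_⟩
  have hinv : (algebraMap B L (algebraMap A B ϖ))⁻¹ = algebraMap K L (algebraMap A K ϖ)⁻¹ := by
    rw [map_inv₀, ← IsScalarTower.algebraMap_apply A B L, ← IsScalarTower.algebraMap_apply A K L]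
  rw [hinv, Algebra.smul_def, mul_comm, ← Algebra.smul_def, map_smul,
    ← Algebra.algebraMap_intTrace (A := A), ← hc, map_mul, smul_eq_mul,
    mul_comm _ (algebraMap A K ϖ), inv_mul_cancel_left₀ hϖ']

theorem differentIdeal_eq_pow_sub_one_iff
    [Algebra.IsSeparable (FractionRing A) (FractionRing B)] :
    differentIdeal A B = maximalIdeal B ^ (Ideal.ramificationIdx (maximalIdeal B) A - 1) ↔
      ∃ x : B, Algebra.intTrace A B x ∉ maximalIdeal A := by
  have hmap := map_maximalIdeal_eq_pow A B
  set e := Ideal.ramificationIdx (maximalIdeal B) A with he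
  have hp : maximalIdeal A ≠ ⊥ := IsDiscreteValuationRing.not_a_field A
  have hm : maximalIdeal B ≠ ⊥ := IsDiscreteValuationRing.not_a_field B
  have hlt : ∀ n, maximalIdeal B ^ (n + 1) < maximalIdeal B ^ n :=
    Ideal.pow_succ_lt_pow hm
  have he0 : 0 < e := Ideal.ramificationIdx_pos _ _
  constructor
  · intro hD
    by_contra! h
    have := Ideal.dvd_iff_le.mp (map_maximalIdeal_dvd_differentIdeal A B h)
    rw [hD, hmap] at this
    have hlt' := hlt (e - 1)
    rw [Nat.sub_add_cancel he0] at hlt'
    exact hlt'.not_ge this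
  · rintro ⟨x, hx⟩
    have h1 : maximalIdeal B ^ (e - 1) ∣ differentIdeal A B :=
      pow_sub_one_dvd_differentIdeal A (maximalIdeal B) e hp (by rw [hmap])
    have h2 : ¬ maximalIdeal B ^ e ∣ differentIdeal A B :=
      not_dvd_differentIdeal_of_intTrace_not_mem A (maximalIdeal B ^ e) ⊤
        (by rw [Ideal.mul_top, hmap]) x trivial hx
    obtain ⟨π, hπ⟩ := IsDiscreteValuationRing.exists_irreducible B
    obtain ⟨j, hj⟩ := IsDiscreteValuationRing.ideal_eq_span_pow_irreducible
      (differentIdeal_ne_bot (A := A) (B := B)) hπ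
    rw [← Ideal.span_singleton_pow, ← hπ.maximalIdeal_eq] at hj
    rw [hj] at h1 h2 ⊢
    rw [Ideal.dvd_iff_le] at h1 h2
    have hj1 : ¬ e ≤ j := fun hle ↦ h2 (Ideal.pow_le_pow_right hle)
    have hj2 : e - 1 ≤ j := by
      by_contra hh
      exact (hlt j).not_ge (h1.trans (Ideal.pow_le_pow_right (by omega)))
    rw [show j = e - 1 by omega]

end Groth.Agent.DiffTame
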